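import Groth.Prelude.Def_PicRel2
import Groth.Prelude.Def_MoreMor
import Groth.Agent.L18.Ample
import Groth.Agent.L18.AmplePull
import Groth.Agent.L27.TopInv.Thickening
import Mathlib.AlgebraicGeometry.Morphisms.Etale

/-!
# Classes on base changes, liftings of etale neighbourhoods along thickenings
-/

set_option autoImplicit false
set_option linter.style.haveILetI false

universe u

open CategoryTheory CategoryTheory.Limits AlgebraicGeometry TopologicalSpace Opposite

noncomputable section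

namespace Groth.L02.PicEtale

variable {X S : Scheme.{u}} (f : X ⟶ S)

theorem XTmap_fst {T T' : Over S} (g : T' ⟶ T) :
    PicF.XTmap f g ≫ pullback.fst f T.hom = pullback.fst f T'.hom :=
  (pullback.lift_fst _ _ _).trans (Category.comp_id _)

theorem XTmap_snd {T T' : Over S} (g : T' ⟶ T) :
    PicF.XTmap f g ≫ PicF.XTproj f T = PicF.XTproj f T' ≫ g.left :=
  pullback.lift_snd _ _ _

theorem XTmap_comp {T T' T'' : Over S} (h : T'' ⟶ T') (g : T' ⟶ T) :
    PicF.XTmap f (h ≫ g) = PicF.XTmap f h ≫ PicF.XTmap f g := by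
  apply pullback.hom_ext
  · rw [Category.assoc, XTmap_fst, XTmap_fst, XTmap_fst]
  · rw [Category.assoc]
    exact (XTmap_snd f (h ≫ g)).trans (by rw [XTmap_snd f g, reassoc_of% (XTmap_snd f h), Over.comp_left])

theorem isPullback_XTmap {T T' : Over S} (g : T' ⟶ T) :
    IsPullback (PicF.XTmap f g) (PicF.XTproj f T') (PicF.XTproj f T) g.left := by
  refine IsPullback.of_right (h₁₂ := pullback.fst f T.hom) ?_ (XTmap_snd f g) (IsPullback.of_hasPullback f T.hom)
  rw [XTmap_fst, Over.w g]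
  exact IsPullback.of_hasPullback _ _

theorem nonempty_iso_of_cl_eq {Y : Scheme.{u}} {L L' : Y.Modules} (h : PicF.cl L = PicF.cl L') :
    Nonempty (L ≅ L') := by
  have h1 := Quot.eqvGen_exact h
  clear h
  induction h1 with
  | rel _ _ h => exact h
  | refl _ => exact ⟨Iso.refl _⟩
  | symm _ _ _ ih => exact ⟨ih.some.symm⟩
  | trans _ _ _ _ _ ih ih' => exact ⟨ih.some ≪≫ ih'.some⟩

theorem pullCl_comp {Y Y' Y'' : Scheme.{u}} (a : Y'' ⟶ Y') (b : Y' ⟶ Y) (c : PicF.Cl Y) :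
    PicF.pullCl (a ≫ b) c = PicF.pullCl a (PicF.pullCl b c) := by
  induction c using Quot.ind with
  | _ L => exact Quot.sound ⟨((Scheme.Modules.pullbackComp a b).app L).symm⟩

theorem pullCl_XTmap_comp {T T' T'' : Over S} (h : T'' ⟶ T') (g : T' ⟶ T) (c : PicF.Cl (PicF.XT f T)) :
    PicF.pullCl (PicF.XTmap f h) (PicF.pullCl (PicF.XTmap f g) c) = PicF.pullCl (PicF.XTmap f (h ≫ g)) c := by
  rw [XTmap_comp, pullCl_comp]

theorem isInvertibleCl_cl {Y : Scheme.{u}} {L : Y.Modules} (hL : PicF.IsInvertible L) :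
    PicF.IsInvertibleCl (PicF.cl L) := ⟨L, rfl, hL⟩

variable {f} {P : Over S} {φ : ∀ T : Over S, PicF.Cl (PicF.XT f T) → (T ⟶ P)}

theorem natural' (hP : PicRel.IsRelPic f P φ) {T T' : Over S} (g : T' ⟶ T) {L : (PicF.XT f T).Modules}
    (hL : PicF.IsInvertible L) :
    φ T' (PicF.cl ((Scheme.Modules.pullback (PicF.XTmap f g)).obj L)) = g ≫ φ T (PicF.cl L) :=
  hP.natural T T' g (PicF.cl L) (isInvertibleCl_cl hL)

/-- A morphism to `P` comes from a class near every point, up to an etale neighbourhood. -/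
theorem exists_class (hP : PicRel.IsRelPic f P φ) {T : Over S} (g : T ⟶ P) (t : T.left) :
    ∃ (V : Over S) (v : V ⟶ T) (z : V.left) (L : (PicF.XT f V).Modules),
      Etale v.left ∧ v.left z = t ∧ PicF.IsInvertible L ∧ φ V (PicF.cl L) = v ≫ g := by
  obtain ⟨ι, U, hU, h⟩ := hP.locallySurjective T g
  obtain ⟨i, y, hy⟩ := hU t
  obtain ⟨c, ⟨L, rfl, hL⟩, hc⟩ := h i
  exact ⟨_, PicRel.ovrHom T (U i), y, L, (U i).prop, hy, hL, hc⟩

/-- Modules with the same point agree near every point, up to an etale neighbourhood. -/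
theorem exists_iso (hP : PicRel.IsRelPic f P φ) {T : Over S} {L L' : (PicF.XT f T).Modules}
    (hL : PicF.IsInvertible L) (hL' : PicF.IsInvertible L') (h : φ T (PicF.cl L) = φ T (PicF.cl L')) (t : T.left) :
    ∃ (V : Over S) (v : V ⟶ T) (z : V.left), Etale v.left ∧ v.left z = t ∧
      Nonempty ((Scheme.Modules.pullback (PicF.XTmap f v)).obj L ≅ (Scheme.Modules.pullback (PicF.XTmap f v)).obj L') := by
  obtain ⟨ι, U, hU, h'⟩ := hP.locallyInjective T _ _ (isInvertibleCl_cl hL) (isInvertibleCl_cl hL') h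
  obtain ⟨i, y, hy⟩ := hU t
  exact ⟨_, PicRel.ovrHom T (U i), y, (U i).prop, hy, nonempty_iso_of_cl_eq (h' i)⟩

/-- An etale neighbourhood of the thickened scheme lifts. -/
theorem exists_lift_nhd {T₀ T : Scheme.{u}} (i : T₀ ⟶ T) [IsClosedImmersion i] {U₀ : Scheme.{u}} (g : U₀ ⟶ T₀)
    [Etale g] (u : U₀) :
    ∃ (V : Scheme.{u}) (v : V ⟶ T) (z : V), IsAffine V ∧ Etale v ∧ v z = i (g u) ∧
      ∃ h : pullback v i ⟶ U₀, h ≫ g = pullback.snd v i := by
  obtain ⟨A, j, _, hj, -⟩ := T.exists_affine_mem_range_and_range_subset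
    (U := ⊤) (x := i.base (g.base u)) trivial
  let O : U₀.Opens := (g ≫ i) ⁻¹ᵁ j.opensRange
  have huO : u ∈ O := hj
  obtain ⟨W, hW, huW, hWO⟩ := exists_isAffineOpen_mem_and_subset huO
  haveI : IsAffine W.toScheme := hW
  let i' := pullback.snd i j
  have hWr : Set.range (W.ι ≫ g) ⊆ Set.range (pullback.fst i j) := by
    rintro _ ⟨w, rfl⟩
    obtain ⟨a, ha⟩ := hWO w.2
    obtain ⟨z, hz, -⟩ := Scheme.Pullback.exists_preimage_pullback (f := i) (g := j) (g (W.ι w)) a (by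
      rw [ha]; rfl)
    exact ⟨z, hz⟩
  let g' : W.toScheme ⟶ pullback i j := IsOpenImmersion.lift (pullback.fst i j) (W.ι ≫ g) hWr
  have hg' : g' ≫ pullback.fst i j = W.ι ≫ g := IsOpenImmersion.lift_fac _ _ _
  haveI : Etale g' := by
    haveI : Etale (g' ≫ pullback.fst i j) := by rw [hg']; infer_instance
    exact Etale.of_comp g' (pullback.fst i j)
  obtain ⟨U, v', hv', k, sq⟩ := Groth.L27.TopInv.exists_lift_affine i' g'
  have sq2 : IsPullback k (g' ≫ pullback.fst i j) (v' ≫ j) i :=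
    sq.paste_vert (IsPullback.of_hasPullback i j).flip
  obtain ⟨W', hW', hkW', -⟩ := exists_isAffineOpen_mem_and_subset (Opens.mem_top (k ⟨u, huW⟩))
  haveI : IsAffine W'.toScheme := hW'
  refine ⟨W'.toScheme, W'.ι ≫ v' ≫ j, ⟨k ⟨u, huW⟩, hkW'⟩, hW', inferInstance, ?_, ?_⟩
  · show (v' ≫ j) (k ⟨u, huW⟩) = _
    rw [← Scheme.Hom.comp_apply, sq2.w, hg']
    rfl
  · refine ⟨pullback.map (W'.ι ≫ v' ≫ j) i (v' ≫ j) i W'.ι (𝟙 _) (𝟙 _) (by simp) (by simp) ≫
      sq2.isoPullback.inv ≫ W.ι, ?_⟩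
    simp only [Category.assoc]
    rw [← hg', sq2.isoPullback_inv_snd]
    exact (pullback.lift_snd _ _ _).trans (Category.comp_id _)

end Groth.L02.PicEtale
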